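import Cfsg.Agent.H363.U4.Frob
import Cfsg.Agent.H363.L4.LinMult
import Cfsg.Agent.H363.L4.CoverNe

/-!
# Covers of `PSU_4(q)`, `q > 2`, have elements of new orders: kernel of order prime to `q` (helper363)
-/

set_option autoImplicit false
set_option linter.unusedSectionVars false

namespace Cfsg.Agent.H363.U4

open Cfsg.Agent.H403 NumTop Subgroup Cfsg.Agent.H363.L4

section

variable {F : Type*} [Field F] [Fintype F] {q : ℕ}

/-- the order of an element of order divisible by `r_3(-q) = r_6(q)` -/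
theorem dvd_of_r3 (hF : Fintype.card F = q ^ 2) {r : ℕ} (hr : r.Prime)
    (hi : orderOf ((xv false q : ℤ) : ZMod r) = 3) (g : Cfsg.PSU 4 F q) (hg : r ∣ orderOf g) :
    orderOf g * Nat.gcd 4 (q + 1) ∣ q ^ 3 + 1 := by
  have hF' : Fintype.card F = q ^ (cond false 0 1 + 1) := by simpa using hF
  have h := Lin.dvd_pred (E := AlgebraicClosure F) (F := F) (e := false) (n := 4) (q := q)
    (lin_psu hF (by norm_num)) hF' (by norm_num) hr (by simpa using hi) g hg (orderOf_pos g).ne'
  rw [AA_one] at h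
  exact h

/-- the order of an element of order divisible by `r_4(-q) = r_4(q)` -/
theorem dvd_of_r4 (hF : Fintype.card F = q ^ 2) {r : ℕ} (hr : r.Prime)
    (hi : orderOf ((xv false q : ℤ) : ZMod r) = 4) (g : Cfsg.PSU 4 F q) (hg : r ∣ orderOf g) :
    orderOf g * Nat.gcd 4 (q + 1) ∣ (q ^ 2 + 1) * (q - 1) := by
  have hq : 2 ≤ q := LieClassical.HermBasic.two_le hF
  have hF' : Fintype.card F = q ^ (cond false 0 1 + 1) := by simpa using hF
  have h := Lin.dvd_top (E := AlgebraicClosure F) (F := F) (e := false) (n := 4) (q := q)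
    (lin_psu hF (by norm_num)) hF' (by norm_num) hr hi g hg (orderOf_pos g).ne'
  rw [AA_one] at h
  have h' : orderOf g * ((q + 1) * Nat.gcd 4 (q + 1)) ∣ q ^ 4 - 1 := h
  have hfac : q ^ 4 - 1 = ((q ^ 2 + 1) * (q - 1)) * (q + 1) := by
    obtain ⟨c, rfl⟩ : ∃ c, q = c + 1 := ⟨q - 1, by omega⟩
    rw [Nat.add_sub_cancel]
    have : (c + 1) ^ 4 = ((c + 1) ^ 2 + 1) * c * (c + 1 + 1) + 1 := by ring
    omega
  rw [hfac, show orderOf g * ((q + 1) * Nat.gcd 4 (q + 1)) = (orderOf g * Nat.gcd 4 (q + 1)) * (q + 1) by ring] at h'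
  exact Nat.dvd_of_mul_dvd_mul_right (by omega) h'

/-- elements of order `r_3(-q)`, `r_4(-q)` -/
theorem exists_ri (hF : Fintype.card F = q ^ 2) {r i : ℕ} (hr : r.Prime) (hi3 : i = 4 ∨ i = 3)
    (hi : orderOf ((xv false q : ℤ) : ZMod r) = i) : ∃ x : Cfsg.PSU 4 F q, orderOf x = r := by
  have hq : 2 ≤ q := LieClassical.HermBasic.two_le hF
  have hF' : Fintype.card F = q ^ (cond false 0 1 + 1) := by simpa using hF
  refine IsL.exists_tor (L := Cfsg.PSU 4 F q) (e := false) (n := 4) (q := q) (F := F)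
    (show Nonempty (Cfsg.PSU 4 F q ≃* Cfsg.PSU 4 F q) from ⟨MulEquiv.refl _⟩) hF' (by norm_num) (i := i) (by omega) hr.pos
    ?_ ?_
  · rw [Nat.Prime.coprime_iff_not_dvd hr]
    exact not_dvd_AA_one (by omega) hi (by omega)
  · rw [dvd_AA_iff (by omega), ← hi]
    exact pow_orderOf_eq_one _

/-- the two conditions on `w` are incompatible -/
theorem arith_central {q w : ℕ} (hq : 2 ≤ q) (hw : w.Prime) (hwq : ¬ w ∣ q)
    (h3 : w * Nat.gcd 4 (q + 1) ∣ q ^ 3 + 1) (h4 : w * Nat.gcd 4 (q + 1) ∣ (q ^ 2 + 1) * (q - 1)) : False := by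
  have hf := Fact.mk hw
  have h5 : w ∣ q ^ 3 + 1 := (dvd_mul_right _ _).trans h3
  have h6 : w ∣ (q ^ 2 + 1) * (q - 1) := (dvd_mul_right _ _).trans h4
  have h5' : ((q : ℕ) : ZMod w) ^ 3 + 1 = 0 := by
    rw [← ZMod.natCast_eq_zero_iff] at h5
    exact_mod_cast h5
  have h6' : (((q : ℕ) : ZMod w) ^ 2 + 1) * (((q : ℕ) : ZMod w) - 1) = 0 := by
    rw [← ZMod.natCast_eq_zero_iff, Nat.cast_mul, Nat.cast_sub (by omega)] at h6
    exact_mod_cast h6
  generalize ((q : ℕ) : ZMod w) = z at h5' h6'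
  have h7 : (4 : ZMod w) = 0 := by
    have h8 : z ^ 2 - z + 2 = 0 := by linear_combination h5' - h6'
    have h9 : z = -1 := by linear_combination (z + 1) * h8 - h5'
    rw [h9] at h8
    linear_combination h8
  have hw2 : w = 2 := by
    have h8 : ((4 : ℕ) : ZMod w) = 0 := by exact_mod_cast h7
    rw [ZMod.natCast_eq_zero_iff, show 4 = 2 ^ 2 by norm_num] at h8
    exact (Nat.prime_dvd_prime_iff_eq hw Nat.prime_two).1 (hw.dvd_of_dvd_pow h8)
  subst hw2
  have hodd : q % 2 = 1 := by omega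
  rcases (by omega : q % 4 = 3 ∨ q % 4 = 1) with h | h
  · have hg : Nat.gcd 4 (q + 1) = 4 := Nat.gcd_eq_left (Nat.dvd_of_mod_eq_zero (by omega))
    rw [hg] at h4
    obtain ⟨a, rfl⟩ : ∃ a, q = 4 * a + 3 := ⟨q / 4, by omega⟩
    rw [show 4 * a + 3 - 1 = 4 * a + 2 by omega] at h4
    have h8 : ((4 * a + 3) ^ 2 + 1) * (4 * a + 2) = 8 * (8 * a ^ 3 + 16 * a ^ 2 + 11 * a + 2) + 4 := by ring
    omega
  · have hg : 2 ∣ Nat.gcd 4 (q + 1) := Nat.dvd_gcd (by norm_num) (Nat.dvd_of_mod_eq_zero (by omega))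
    obtain ⟨a, rfl⟩ : ∃ a, q = 4 * a + 1 := ⟨q / 4, by omega⟩
    have h8 : (4 * a + 1) ^ 3 = 4 * (16 * a ^ 3 + 12 * a ^ 2 + 3 * a) + 1 := by ring
    have h9 : 2 * 2 ∣ (4 * a + 1) ^ 3 + 1 := (Nat.mul_dvd_mul_left 2 hg).trans h3
    omega

/-- **Covers by elementary abelian `w`-groups, `w` not the characteristic.** -/
theorem cover_ne (hF : Fintype.card F = q ^ 2) (hq3 : q ≠ 2) {p : ℕ} (hp : p.Prime) [CharP F p]
    {X : Type*} [Group X] [Finite X] (V : Subgroup X)
    [V.Normal] [IsSimpleGroup (X ⧸ V)] {w : ℕ} (hw : w.Prime) (hwp : w ≠ p) (hVc : IsMulCommutative V)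
    (hVp : ∀ v ∈ V, v ^ w = 1) (hV : V ≠ ⊥) (e : X ⧸ V ≃* Cfsg.PSU 4 F q)
    (hω : ∀ x : X, ∃ y : Cfsg.PSU 4 F q, orderOf y = orderOf x) : False := by
  have hq : 2 ≤ q := LieClassical.HermBasic.two_le hF
  obtain ⟨a, ha, hFa⟩ := isPow (F := F) hp
  have hwq : ¬ w ∣ q := by
    intro h
    have h1 : w ∣ Fintype.card F := by rw [hF]; exact h.trans (dvd_pow_self q two_ne_zero)
    rw [hFa] at h1
    exact hwp ((Nat.prime_dvd_prime_iff_eq hw hp).1 (hw.dvd_of_dvd_pow h1))
  obtain ⟨r, hr, -, hro⟩ := exists_prime (e := false) (i := 3) hq (by norm_num)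
    (by rintro (⟨h, -, -⟩ | ⟨-, -, h⟩); exacts [by simp at h, hq3 h])
  obtain ⟨s, hs, -, hso⟩ := exists_prime (e := false) (i := 4) hq (by norm_num)
    (by rintro (⟨h, -, -⟩ | ⟨-, h, -⟩) <;> simp at h)
  obtain ⟨v, hv, hv1⟩ : ∃ v ∈ V, v ≠ 1 := by
    by_contra hcon
    push Not at hcon
    exact hV ((eq_bot_iff_forall V).2 hcon)
  have hwf := Fact.mk hw
  have hvo : orderOf v = w := orderOf_eq_prime (hVp v hv) hv1
  by_cases hcen : V ≤ center X
  · have hcard : ∀ s, s ∣ Nat.card (Cfsg.PSU 4 F q) → s ∣ Nat.card X := fun s hs => by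
      rw [← Nat.card_congr e.toEquiv] at hs
      exact hs.trans (card_quotient_dvd_card V)
    have hrd : r ∣ Nat.card X := by
      obtain ⟨g, hg⟩ := exists_ri hF hr (Or.inr rfl) hro
      exact hcard _ (by rw [← hg]; exact _root_.orderOf_dvd_natCard g)
    have hsd : s ∣ Nat.card X := by
      obtain ⟨g, hg⟩ := exists_ri hF hs (Or.inl rfl) hso
      exact hcard _ (by rw [← hg]; exact _root_.orderOf_dvd_natCard g)
    have h1 : w ≠ r → w * Nat.gcd 4 (q + 1) ∣ q ^ 3 + 1 := fun h => by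
      obtain ⟨x, hx⟩ := exists_mul_of_central (hcen hv) hvo hr ((Nat.coprime_primes hw hr).2 h) hrd
      obtain ⟨y, hy⟩ := hω x
      have h3 := dvd_of_r3 hF hr hro y (by rw [hy, hx]; exact dvd_mul_left _ _)
      rw [hy, hx] at h3
      exact (Nat.mul_dvd_mul_right (dvd_mul_right w r) _).trans h3
    have h2 : w ≠ s → w * Nat.gcd 4 (q + 1) ∣ (q ^ 2 + 1) * (q - 1) := fun h => by
      obtain ⟨x, hx⟩ := exists_mul_of_central (hcen hv) hvo hs ((Nat.coprime_primes hw hs).2 h) hsd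
      obtain ⟨y, hy⟩ := hω x
      have h3 := dvd_of_r4 hF hs hso y (by rw [hy, hx]; exact dvd_mul_left _ _)
      rw [hy, hx] at h3
      exact (Nat.mul_dvd_mul_right (dvd_mul_right w s) _).trans h3
    have hcast3 : w ∣ q ^ 3 + 1 → orderOf ((xv false q : ℤ) : ZMod w) ∣ 3 := fun h => by
      rw [← ZMod.natCast_eq_zero_iff] at h
      push_cast at h
      apply orderOf_dvd_of_pow_eq_one
      simp only [xv, Bool.false_eq_true, if_false]
      push_cast
      linear_combination -h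
    have hcast4 : w ∣ (q ^ 2 + 1) * (q - 1) → orderOf ((xv false q : ℤ) : ZMod w) ∣ 4 := fun h => by
      rw [← ZMod.natCast_eq_zero_iff, Nat.cast_mul, Nat.cast_sub (by omega)] at h
      push_cast at h
      apply orderOf_dvd_of_pow_eq_one
      simp only [xv, Bool.false_eq_true, if_false]
      push_cast
      linear_combination (((q : ℕ) : ZMod w) + 1) * h
    rcases eq_or_ne w r with rfl | hwr
    · have hrs : w ≠ s := by
        rintro rfl
        omega
      have h3 := hcast4 ((dvd_mul_right _ _).trans (h2 hrs))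
      rw [hro] at h3
      norm_num at h3
    rcases eq_or_ne w s with rfl | hws
    · have h3 := hcast3 ((dvd_mul_right _ _).trans (h1 hwr))
      rw [hso] at h3
      norm_num at h3
    exact arith_central hq hw hwq (h1 hwr) (h2 hws)
  · have hpf := Fact.mk hp
    obtain ⟨U, c, hU, hU1, hn, hfix, hc⟩ := exists_frob (F := F) hF (p := p)
    set f : Cfsg.PSU 4 F q →* X ⧸ V := e.symm.toMonoidHom with hf
    have hfi : Function.Injective f := e.symm.injective
    have hcop : (Nat.card (U.map f)).Coprime w := by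
      rw [Subgroup.card_map_of_injective hfi]
      obtain ⟨b, hb⟩ := IsPGroup.iff_card.1 hU
      rw [hb]
      exact Nat.Coprime.pow_left _ ((Nat.coprime_primes hp hw).2 hwp.symm)
    obtain ⟨u, hu, hu1⟩ : ∃ u ∈ U, u ≠ 1 := by
      by_contra hcon
      push Not at hcon
      exact hU1 ((eq_bot_iff_forall U).2 hcon)
    obtain ⟨y, hy⟩ := H371.Frob.exists_orderOf V hVc hw hVp (U.map f) (c := f c)
      (by
        rintro _ ⟨a, ha, rfl⟩
        exact ⟨c * a * c⁻¹, hn a ha, by simp⟩)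
      (by
        rintro i hi0 hi _ ⟨a, ha, rfl⟩ h
        rw [orderOf_injective f hfi] at hi
        rw [← map_pow, ← map_mul, ← map_mul] at h
        rw [hfix i hi0 hi a ha (hfi h), map_one]) hcop
      (by
        obtain ⟨g, hg⟩ := QuotientGroup.mk_surjective (f u)
        refine ⟨g, by rw [hg]; exact mem_map_of_mem f hu, exists_not_comm V hVc hcen g fun h => hu1 ?_⟩
        apply hfi
        rw [map_one, ← hg]
        exact (QuotientGroup.eq_one_iff g).2 h)
    rw [orderOf_injective f hfi] at hy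
    obtain ⟨z, hz⟩ := hω y
    have hsc : s ∣ orderOf c := by
      have hsf := Fact.mk hs
      have h4 : ((q : ℕ) : ZMod s) ^ 4 = 1 := by
        have := pow_orderOf_eq_one ((xv false q : ℤ) : ZMod s)
        rw [hso] at this
        simp only [xv, Bool.false_eq_true, if_false] at this
        push_cast at this
        linear_combination this
      have h2 : ((q : ℕ) : ZMod s) ^ 2 ≠ 1 := fun h => by
        have h5 : orderOf ((xv false q : ℤ) : ZMod s) ∣ 2 := by
          apply orderOf_dvd_of_pow_eq_one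
          simp only [xv, Bool.false_eq_true, if_false]
          push_cast
          linear_combination h
        rw [hso] at h5
        norm_num at h5
      have h6 : ((q : ℕ) : ZMod s) ^ 2 + 1 = 0 := by
        have : (((q : ℕ) : ZMod s) ^ 2 - 1) * (((q : ℕ) : ZMod s) ^ 2 + 1) = 0 := by linear_combination h4
        exact (mul_eq_zero.1 this).resolve_left (sub_ne_zero.2 h2)
      have h7 : s ∣ q ^ 2 + 1 := by
        rw [← ZMod.natCast_eq_zero_iff]
        exact_mod_cast h6
      have hs2 : s ≠ 2 := by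
        rintro rfl
        exact h2 (zmod_two_aux _ h4)
      refine (Nat.Prime.dvd_mul hs).1 ((h7.mul_right (q - 1)).trans hc) |>.resolve_right fun h8 => hs2 ?_
      have h9 := h8.trans (Nat.gcd_dvd_left _ _)
      rw [show 4 = 2 ^ 2 by norm_num] at h9
      exact (Nat.prime_dvd_prime_iff_eq hs Nat.prime_two).1 (hs.dvd_of_dvd_pow h9)
    have h1 := dvd_of_r4 hF hs hso z (by rw [hz, hy]; exact hsc.mul_right _)
    rw [hz, hy] at h1
    have h2 := h1.trans hc
    have hd0 : 0 < Nat.gcd 4 (q + 1) := Nat.gcd_pos_of_pos_left _ (by norm_num)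
    have h3 := Nat.dvd_of_mul_dvd_mul_right hd0 h2
    have h4 := Nat.le_of_dvd (orderOf_pos c) h3
    have h5 := orderOf_pos c
    have := hw.two_le
    nlinarith

end

end Cfsg.Agent.H363.U4
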